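import Cfsg.Agent.H519.Gs.Bad3
import Cfsg.Agent.H519.Gs.Psi
import Cfsg.Agent.H405.Gs.Chain2
import Cfsg.Agent.H915.Gs.SL2W
import Cfsg.Agent.TwoFusion.SLTwoFacts

/-!
# S4327, unitary groups, the alternating bar automorphisms (helper519): `q ≥ 4`

`z₁, g z₁, z₂, g z₂` orthonormal, `P = ⟨z₁, z₂⟩ ⟂ gP`. For a hyperbolic pair `v, w` of `P` and a suitable `λ` the diagonal
subgroup of `SU(P) × SU(gP)` given by `(v, w)` and `(λ g w, (σ λ)⁻¹ g v)` is normalised by `a`, and `a ψ(u t) = ψ(l t)`: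
three conjugates give this diagonal subgroup, four conjugates `SU(P) × SU(gP)`, six `SU₄(q)`.
-/

set_option autoImplicit false
set_option linter.unusedSectionVars false
set_option linter.unusedVariables false
set_option linter.unusedSimpArgs false

namespace Cfsg.Agent.H519.Gs

open Cfsg.Agent.H91.U Cfsg.Agent.H450.UF Cfsg.Agent.H915.Gs Cfsg.Agent.H937.Gs Subgroup Module Matrix
open Cfsg.Agent.LieClassical.SLTwoUnipotent (u l u_add l_add u_neg l_neg)
open Cfsg.Agent.H405.Gs (TS TS_mono TS_fix norm_trans R IsTv cj_TS TS_base)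
open Cfsg.Agent.ClassicalGeometry.HermWitt (norm_surj)
open scoped commutatorElement

section normal

variable {F : Type*} [Field F]

/-- normal subgroups of `SL(2, F)` -/
theorem sl_normal [Fintype F] (hF : 3 < Fintype.card F) (N : Subgroup (SpecialLinearGroup (Fin 2) F))
    (hN : N.Normal) : N = ⊤ ∨ N ≤ center (SpecialLinearGroup (Fin 2) F) := by
  have hs := Cfsg.Agent.TwoFusion.SLTwoFacts.isSimpleGroup_psl hF
  have hp := Cfsg.Agent.TwoFusion.SLTwoFacts.commutator_eq_top hF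
  obtain ⟨π, hπ⟩ : ∃ π : SpecialLinearGroup (Fin 2) F →* ProjectiveSpecialLinearGroup (Fin 2) F,
      π = QuotientGroup.mk' _ := ⟨_, rfl⟩
  have hsurj : Function.Surjective π := by rw [hπ]; exact QuotientGroup.mk'_surjective _
  have hker : π.ker = center (SpecialLinearGroup (Fin 2) F) := by rw [hπ]; exact QuotientGroup.ker_mk' _
  have hNn : (N.map π).Normal := hN.map π hsurj
  rcases hNn.eq_bot_or_eq_top with h | h
  · right
    rw [← hker]
    exact (Subgroup.map_eq_bot_iff N).1 h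
  · left
    have h1 : N ⊔ center (SpecialLinearGroup (Fin 2) F) = ⊤ := by
      rw [← hker, ← Subgroup.comap_map_eq, h, Subgroup.comap_top]
    rw [eq_top_iff, ← hp, _root_.commutator_def, Subgroup.commutator_le]
    intro a _ b _
    have ha : a ∈ N ⊔ center (SpecialLinearGroup (Fin 2) F) := by rw [h1]; exact mem_top a
    have hb : b ∈ N ⊔ center (SpecialLinearGroup (Fin 2) F) := by rw [h1]; exact mem_top b
    rw [mem_sup_of_normal_left] at ha hb
    obtain ⟨n, hn, c, hc, rfl⟩ := ha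
    obtain ⟨n', hn', c', hc', rfl⟩ := hb
    rw [mem_center_iff] at hc hc'
    have e : ⁅n * c, n' * c'⁆ = ⁅n, n'⁆ := by
      rw [commutatorElement_def, commutatorElement_def]
      calc n * c * (n' * c') * (n * c)⁻¹ * (n' * c')⁻¹ = n * (c * (n' * c' * c⁻¹)) * n⁻¹ * c'⁻¹ * n'⁻¹ := by
            group
        _ = n * ((n' * c' * c⁻¹) * c) * n⁻¹ * c'⁻¹ * n'⁻¹ := by rw [← hc (n' * c' * c⁻¹)]
        _ = n * (n' * (c' * n⁻¹)) * c'⁻¹ * n'⁻¹ := by group
        _ = n * (n' * (n⁻¹ * c')) * c'⁻¹ * n'⁻¹ := by rw [← hc' n⁻¹]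
        _ = n * n' * n⁻¹ * n'⁻¹ := by group
    rw [e, commutatorElement_def]
    exact N.mul_mem (N.mul_mem (N.mul_mem hn hn') (N.inv_mem hn)) (N.inv_mem hn')

/-- `[u 1, l 1]` is not central -/
theorem ul_not_center : u (1 : F) * l 1 * u (-1) * l (-1) ∉ center (SpecialLinearGroup (Fin 2) F) := by
  intro h
  rw [mem_center_iff] at h
  have h1 := h (u 1)
  have h2 : (u (1 : F) * (u (1 : F) * l 1 * u (-1) * l (-1))).1 1 1 =
      ((u (1 : F) * l 1 * u (-1) * l (-1)) * u 1).1 1 1 := by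
    rw [h1]
  have e1 : (u (1 : F) * (u (1 : F) * l 1 * u (-1) * l (-1))).1 =
    !![1, 1; 0, 1] * (!![1, 1; 0, 1] * !![1, 0; 1, 1] * !![1, -1; 0, 1] * !![1, 0; -1, 1]) := rfl
  have e2 : ((u (1 : F) * l 1 * u (-1) * l (-1)) * u 1).1 =
    (!![1, 1; 0, 1] * !![1, 0; 1, 1] * !![1, -1; 0, 1] * !![1, 0; -1, 1]) * !![1, 1; 0, 1] := rfl
  rw [e1, e2] at h2
  simp at h2

end normal

variable {F V : Type*} [Field F] [AddCommGroup V] [Module F V] {σ : F →+* F} {B : V →ₛₗ[σ] V →ₗ[F] F}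
variable [Finite F] [FiniteDimensional F V] {a : MulAut (SIso B)} {g : V → V}

/-- the images of the diagonal elements -/
theorem Bad.swap_psi (h : Bad B a g) (hB : HForm B) {K : Type*} [Field K] {ι : K →+* F} {c₀ : F} {v w v' w' : V}
    (h1 : Hyp B ι c₀ v w) (h2 : Hyp B ι c₀ v' w') {m : F} (hm : g v = m • w') (hN : m * σ m * (c₀ * c₀) = -1) (t : K) :
    a (psi hB h1 (u t)) = psi hB h2 (l t) := by
  apply Cfsg.Agent.H937.Gs.ext'
  intro y
  obtain ⟨x, rfl⟩ := h.surj y
  rw [h.comp, psi_u, h.add, h.smul, psi_l, map_mul, map_mul, h1.fix, h1.skew]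
  have e1 : σ (B v x) = B (g v) (g x) := (h.form v x).symm
  rw [e1, hm, smul_left, smul_smul]
  congr 2
  have h0 := h1.c0
  have e2 : c₀⁻¹ = -(m * σ m * c₀) := by
    have e3 : -(m * σ m * c₀) * c₀ = 1 := by linear_combination -hN
    exact (eq_inv_of_mul_eq_one_left e3).symm
  rw [e2]
  ring

theorem Bad.start4 (h : Bad B a g) (hB : HForm B) {z₁ z₂ : V} (hz : QF B g z₁ z₂) {K : Type*} [Field K] [Fintype K]
    (ι : K →+* F) (hfix : ∀ t, σ (ι t) = ι t) (honto : ∀ x : F, σ x = x → ∃ t, ι t = x) (h4 : 4 ≤ Fintype.card K) :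
    Reach a 4 (TS B (Submodule.span F {z₁} ⊔ Submodule.span F {z₂}) ⊔
      TS B (Submodule.span F {g z₁} ⊔ Submodule.span F {g z₂})) := by
  obtain ⟨c₀, hc0, hsk⟩ := Cfsg.Agent.H929.Gs.exists_skew hB
  obtain ⟨m, hm0, hm⟩ := norm_surj σ hB.ne_id hB.invol (-(c₀ * c₀)⁻¹) (by
    rw [map_neg, map_inv₀, map_mul, hsk, neg_mul_neg]) (neg_ne_zero.2 (inv_ne_zero (mul_ne_zero hc0 hc0)))
  have hsm := sig_ne_zero (σ := σ) hm0
  have hN : m * σ m * (c₀ * c₀) = -1 := by
    rw [hm, neg_mul, inv_mul_cancel₀ (mul_ne_zero hc0 hc0)]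
  obtain ⟨t, ht0, ht⟩ := norm_surj σ hB.ne_id hB.invol (-1) (by simp) (by simp)
  obtain ⟨c, hc⟩ := exists_trace hB (s := -1) (by rw [map_neg, map_one])
  have h11 := hz.h11
  have h22 := hz.h22
  have h12 := hz.h12
  have h21 : B z₂ z₁ = 0 := hB.swap_zero h12
  have k11 : B z₁ (g z₁) = 0 := h.alt _
  have k22 : B z₂ (g z₂) = 0 := h.alt _
  have k12 := hz.k12
  have k21 : B z₂ (g z₁) = 0 := by rw [h.swapg, k12, neg_zero]
  -- the hyperbolic pair of `P`
  obtain ⟨v, hv⟩ : ∃ v, v = z₁ + t • z₂ := ⟨_, rfl⟩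
  obtain ⟨w, hw⟩ : ∃ w, w = z₁ + c • v := ⟨_, rfl⟩
  have hvv : B v v = 0 := by
    rw [hv]
    simp only [map_add, LinearMap.add_apply, smul_left, smul_right, h11, h12, h21, h22]
    linear_combination ht
  have hvz : B v z₁ = 1 := by rw [hv, map_add, LinearMap.add_apply, smul_left, h11, h21, mul_zero, add_zero]
  have hzv : B z₁ v = 1 := by rw [hv, map_add, smul_right, h11, h12, mul_zero, add_zero]
  have hvw : B v w = 1 := by rw [hw, map_add, smul_right, hvv, hvz, mul_zero, add_zero]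
  have hwv : B w v = 1 := by rw [hB.swap, hvw, map_one]
  have hww : B w w = 0 := by
    rw [hw]
    simp only [map_add, LinearMap.add_apply, smul_left, smul_right, h11, hvv, hvz, hzv]
    linear_combination hc
  -- perpendicularity
  have pv : ∀ x, B z₁ x = 0 → B z₂ x = 0 → B v x = 0 ∧ B w x = 0 := by
    intro x hx1 hx2
    have e1 : B v x = 0 := by
      rw [hv, map_add, LinearMap.add_apply, smul_left, hx1, hx2, mul_zero, add_zero]
    exact ⟨e1, by rw [hw, map_add, LinearMap.add_apply, smul_left, hx1, e1, mul_zero, add_zero]⟩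
  have gvx : B z₁ (g v) = 0 ∧ B z₂ (g v) = 0 := by
    rw [hv, h.add, h.smul]
    simp only [map_add, smul_right, k11, k12, k21, k22, mul_zero, add_zero, and_self]
  have gwx : B z₁ (g w) = 0 ∧ B z₂ (g w) = 0 := by
    rw [hw, h.add, h.smul]
    simp only [map_add, smul_right, k11, k12, k21, k22, gvx.1, gvx.2, mul_zero, add_zero, and_self]
  have pvv := pv _ gvx.1 gvx.2
  have pww := pv _ gwx.1 gwx.2
  have hgvw : B (g w) (g v) = 1 := by rw [h.form, hwv, map_one]
  -- the hyperbolic pair of `gP`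
  obtain ⟨v', hv'⟩ : ∃ v', v' = σ m • g w := ⟨_, rfl⟩
  obtain ⟨w', hw'⟩ : ∃ w', w' = m⁻¹ • g v := ⟨_, rfl⟩
  have e1 : g v = m • w' := by rw [hw', smul_smul, mul_inv_cancel₀ hm0, one_smul]
  have e2 : g w = (σ m)⁻¹ • v' := by rw [hv', smul_smul, inv_mul_cancel₀ hsm, one_smul]
  have H1 : Hyp B ι c₀ v w := ⟨hvv, hww, hvw, hwv, hfix, hc0, hsk⟩
  have hvw' : B v' w' = 1 := by
    rw [hv', hw', smul_left, smul_right, hgvw, hB.invol]
    field_simp
  have H2 : Hyp B ι c₀ v' w' := by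
    refine ⟨?_, ?_, hvw', ?_, hfix, hc0, hsk⟩
    · rw [hv', smul_left, smul_right, h.gself hB, hww, mul_zero, mul_zero]
    · rw [hw', smul_left, smul_right, h.gself hB, hvv, mul_zero, mul_zero]
    · rw [hB.swap, hvw', map_one]
  have hcomm := psi_comm hB H1 H2 (by rw [hv', smul_right, pww.1, mul_zero]) (by rw [hw', smul_right, pvv.1, mul_zero])
    (by rw [hv', smul_right, pww.2, mul_zero]) (by rw [hw', smul_right, pvv.2, mul_zero])
  -- the automorphism
  have a1 : ∀ t, a (psi hB H1 (u t)) = psi hB H2 (l t) := fun t => h.swap_psi hB H1 H2 e1 hN t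
  have a2 : ∀ t, a (psi hB H2 (u t)) = psi hB H1 (l t) := by
    refine fun t => h.swap_psi hB H2 H1 (m := -m) ?_ ?_ t
    · rw [hv', h.smul, hB.invol, h.gg hB, smul_neg, neg_smul]
    · rw [map_neg]
      linear_combination hN
  -- the diagonal subgroup
  let ψ : SpecialLinearGroup (Fin 2) K →* SIso B :=
    { toFun := fun s => psi hB H1 s * psi hB H2 s
      map_one' := by rw [map_one, map_one, one_mul]
      map_mul' := fun s r => by
        rw [map_mul, map_mul, mul_assoc, mul_assoc, ← mul_assoc (psi hB H1 r), (hcomm r s).eq, mul_assoc] }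
  have hψ : ∀ s, ψ s = psi hB H1 s * psi hB H2 s := fun s => rfl
  have hψa : ∀ t, a (ψ (u t)) = ψ (l (1 * t)) := by
    intro t
    rw [hψ, hψ, map_mul, a1, a2, one_mul, (hcomm _ _).eq]
  have r2 : Reach₁ a 2 ψ.range := sl2w_one h4 one_ne_zero hψa fun _ => ⟨1, by ring⟩
  have r3 : Reach a 3 ψ.range := r2.reach
  have r4 := (r3.step (psi hB H1 (u 1))).reach
  refine r4.sub ?_
  set J := cj (psi hB H1 (u 1)) ψ.range ⊔ im a (cj (psi hB H1 (u 1)) ψ.range) with hJ
  -- the elements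
  have m1 : ∀ s, psi hB H1 (u 1 * s * u (-1)) * psi hB H2 s ∈ J := by
    intro s
    apply mem_sup_left
    refine ⟨ψ s, ⟨s, rfl⟩, ?_⟩
    show MulAut.conj (psi hB H1 (u 1)) (ψ s) = _
    rw [MulAut.conj_apply, hψ, u_neg, map_mul, map_mul, map_inv]
    have e := (hcomm (u 1)⁻¹ s).eq
    rw [map_inv] at e
    rw [← mul_assoc, mul_assoc _ (psi hB H2 s), ← e]
    group
  have m2 : ∀ s, a (psi hB H1 (u 1 * s * u (-1)) * psi hB H2 s) ∈ J := by
    intro s
    apply mem_sup_right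
    refine ⟨_, ?_, rfl⟩
    refine ⟨ψ s, ⟨s, rfl⟩, ?_⟩
    show MulAut.conj (psi hB H1 (u 1)) (ψ s) = _
    rw [MulAut.conj_apply, hψ, u_neg, map_mul, map_mul, map_inv]
    have e := (hcomm (u 1)⁻¹ s).eq
    rw [map_inv] at e
    rw [← mul_assoc, mul_assoc _ (psi hB H2 s), ← e]
    group
  have m3 : psi hB H1 (u 1 * l 1 * u (-1) * l (-1)) ∈ J := by
    have f1 := m1 (l 1)
    have f2 := m2 (u 1)
    have f3 : u (1 : K) * u 1 * u (-1) = u 1 := by rw [mul_assoc, ← u_add, add_neg_cancel]; simp [Cfsg.Agent.LieClassical.SLTwoUnipotent.u_zero]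
    rw [f3, map_mul, a1, a2, ← (hcomm _ _).eq] at f2
    have f4 := J.mul_mem f1 (J.inv_mem f2)
    rw [_root_.mul_inv_rev, mul_assoc, ← mul_assoc (psi hB H2 (l 1)), mul_inv_cancel, one_mul, ← map_inv, ← l_neg, ← map_mul] at f4
    exact f4
  -- normality
  have key : J.comap (psi hB H1) = ⊤ := by
    refine (sl_normal (by omega) _ ⟨fun n hn s => ?_⟩).resolve_right fun hc => ul_not_center (hc m3)
    rw [mem_comap] at hn ⊢
    obtain ⟨r, hr⟩ : ∃ r, r = u (-1) * s * u (1 : K) := ⟨_, rfl⟩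
    have f1 := m1 r
    have f2 : u (1 : K) * r * u (-1) = s := by
      rw [hr, u_neg]; group
    rw [f2] at f1
    have f3 := J.mul_mem (J.mul_mem f1 hn) (J.inv_mem f1)
    have f4 : psi hB H1 s * psi hB H2 r * psi hB H1 n * (psi hB H1 s * psi hB H2 r)⁻¹ =
        psi hB H1 (s * n * s⁻¹) := by
      have e := (hcomm n r).eq
      rw [mul_assoc (psi hB H1 s), ← e, map_mul, map_mul, map_inv]
      group
    rwa [f4] at f3
  have n1 : ∀ s, psi hB H1 s ∈ J := fun s => by
    have : s ∈ J.comap (psi hB H1) := by rw [key]; trivial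
    exact this
  have n2 : ∀ s, psi hB H2 s ∈ J := fun s => by
    have := J.mul_mem (J.inv_mem (n1 (u 1 * s * u (-1)))) (m1 s)
    rwa [inv_mul_cancel_left] at this
  obtain ⟨x1, x2⟩ := X_le_range hB H1 honto
  obtain ⟨x3, x4⟩ := X_le_range hB H2 honto
  have J1 : (psi hB H1).range ≤ J := by rintro _ ⟨s, rfl⟩; exact n1 s
  have J2 : (psi hB H2).range ≤ J := by rintro _ ⟨s, rfl⟩; exact n2 s
  refine sup_le ?_ ?_
  · refine (TS_mono ?_).trans ((TS_base hB hvv hww hvw).trans (sup_le (x1.trans J1) (x2.trans J1)))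
    have q1 : z₁ ∈ Submodule.span F {v, w} :=
      Submodule.mem_span_pair.2 ⟨-c, 1, by rw [hw, one_smul, neg_smul]; abel⟩
    have q2 : t • z₂ ∈ Submodule.span F {v, w} := by
      have : t • z₂ = v - z₁ := by rw [hv]; abel
      rw [this]
      exact Submodule.sub_mem _ (Submodule.subset_span (by simp)) q1
    rw [sup_le_iff, Submodule.span_singleton_le_iff_mem, Submodule.span_singleton_le_iff_mem]
    exact ⟨q1, (Submodule.smul_mem_iff _ ht0).1 q2⟩
  · refine (TS_mono ?_).trans ((TS_base hB H2.vv H2.ww hvw').trans (sup_le (x3.trans J2) (x4.trans J2)))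
    have q3 : g v ∈ Submodule.span F {v', w'} := by
      rw [e1]; exact Submodule.smul_mem _ _ (Submodule.subset_span (by simp))
    have q4 : g w ∈ Submodule.span F {v', w'} := by
      rw [e2]; exact Submodule.smul_mem _ _ (Submodule.subset_span (by simp))
    have q1 : g z₁ ∈ Submodule.span F {v', w'} := by
      have : g z₁ = g w - σ c • g v := by rw [hw, h.add, h.smul]; abel
      rw [this]
      exact Submodule.sub_mem _ q4 (Submodule.smul_mem _ _ q3)
    have q2 : σ t • g z₂ ∈ Submodule.span F {v', w'} := by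
      have : σ t • g z₂ = g v - g z₁ := by rw [hv, h.add, h.smul]; abel
      rw [this]
      exact Submodule.sub_mem _ q3 q1
    rw [sup_le_iff, Submodule.span_singleton_le_iff_mem, Submodule.span_singleton_le_iff_mem]
    exact ⟨q1, (Submodule.smul_mem_iff _ (sig_ne_zero ht0)).1 q2⟩

end Cfsg.Agent.H519.Gs
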